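import Cfsg.Agent.H844.Ore.BAbs

/-!
# Elements `x` with `x ^ 9 = c` in the situation `Rad 3 z c N f` (helper657, S4816, row (B, 3))

* `cube_not_mem` : a cube root of `c` is not in `N`;
* `exists_F` : `f` extends to `F : D → A` with `F N = 1` and `g ^ 2 ∈ N` for `g` in the kernel;
* `three_part` : a 3-group `T` commuting with `x` and `τ` has `|T| ≤ 9 |T ∩ N|`;
* `nine_dvd` : `3 ^ 9 ∣ |C_N(τ)|`.
-/

set_option autoImplicit false
set_option linter.unusedSectionVars false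

namespace Cfsg.Agent.H657.RIM.Abs

open Subgroup Cfsg Cfsg.Agent.BpSpor.M5

universe u v

variable {D : Type u} [Group D] [Finite D] {z c : D} {N : Subgroup D} {A : Type v} [Group A] [Finite A]
  {f : ↥(centralizer ({z} : Set D)) →* A}

/-- a cube root of `c` is not in `N` -/
theorem cube_not_mem (h : Rad 3 z c N f) {g : D} (hg : g ^ 3 = c) : g ∉ N := by
  haveI : Fact (Nat.Prime 3) := ⟨Nat.prime_three⟩
  intro hN
  have hc1 : c ≠ 1 := by
    intro h1
    have h2 := h.ox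
    rw [h1, orderOf_one] at h2
    norm_num at h2
  have hcc : c ^ 3 = 1 := by rw [← h.ox, pow_orderOf_eq_one]
  obtain ⟨i, hi⟩ := h.inv (by norm_num) hN
  have h1 : (z * g * z⁻¹) ^ 3 = (g⁻¹ * c ^ i) ^ 3 := by rw [hi]
  have hc : Commute g⁻¹ (c ^ i) := h.xzc i g⁻¹
  have hci : (c ^ i) ^ 3 = 1 := by
    rw [← zpow_natCast, ← zpow_mul, mul_comm, zpow_mul, zpow_natCast, hcc, one_zpow]
  rw [conj_pow, hc.mul_pow, hci, mul_one, inv_pow, hg, h.xc z, mul_inv_cancel_right] at h1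
  have h3 : c * c = 1 := by
    nth_rewrite 1 [h1]
    exact inv_mul_cancel _
  have := h.sq_one (i := 1) (by norm_num) (by rw [zpow_one]; exact h3)
  rw [zpow_one] at this
  exact hc1 this

/-- **`f` extends to `D`.** -/
theorem exists_F [IsSimpleGroup A] (hns : ¬ Group.IsSolvable A) (h : Rad 3 z c N f) :
    ∃ F : D →* A, (∀ g : ↥(centralizer ({z} : Set D)), F (g : D) = f g) ∧ (∀ n ∈ N, F n = 1) ∧
      ∀ g : D, F g = 1 → g * g ∈ N := by
  haveI : Fact (Nat.Prime 3) := ⟨Nat.prime_three⟩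
  have hN := h.nN
  let α : ↥(centralizer ({z} : Set D)) →* D ⧸ N := (QuotientGroup.mk' N).comp (centralizer ({z} : Set D)).subtype
  have hα : Function.Surjective α := by
    intro y
    obtain ⟨g, rfl⟩ := QuotientGroup.mk'_surjective N y
    obtain ⟨n, hn, c', hc, rfl⟩ := h.sup g
    refine ⟨⟨c', mem_centralizer_singleton_iff.2 hc⟩, ?_⟩
    show QuotientGroup.mk' N c' = QuotientGroup.mk' N (n * c')
    rw [map_mul, show QuotientGroup.mk' N n = 1 from (QuotientGroup.eq_one_iff _).2 hn, one_mul]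
  have hle : ∀ c', α c' = 1 → f c' = 1 := by
    intro c' hc
    have h1 : (c' : D) ∈ N := (QuotientGroup.eq_one_iff _).1 hc
    obtain ⟨i, hi⟩ := mem_zpowers_iff.1 (h.cN c' h1 (mem_centralizer_singleton_iff.1 c'.2))
    refine h.f_central hns fun g => Subtype.ext ?_
    show (g : D) * c' = c' * g
    rw [← hi]
    exact h.xzc i g
  obtain ⟨ρ, hρ⟩ := LThreeMB.exists_fac α hα f (fun a ha => hle a ha)
  refine ⟨ρ.comp (QuotientGroup.mk' N), fun g => hρ g, fun n hn => ?_, fun g hg => ?_⟩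
  · show ρ (QuotientGroup.mk' N n) = 1
    rw [show QuotientGroup.mk' N n = 1 from (QuotientGroup.eq_one_iff _).2 hn, map_one]
  · obtain ⟨c', hc'⟩ := hα (QuotientGroup.mk' N g)
    have h1 : f c' = 1 := by
      rw [← hρ, hc']
      exact hg
    have h2 : (c' : D) * c' ∈ N := by
      obtain ⟨i, hi⟩ := h.ker_sq h1
      rw [hi]
      exact N.zpow_mem h.xN i
    have h3 : QuotientGroup.mk' N (g * g) = QuotientGroup.mk' N ((c' : D) * c') := by
      rw [map_mul, ← hc']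
      rfl
    have h4 : QuotientGroup.mk' N ((c' : D) * c') = 1 := (QuotientGroup.eq_one_iff _).2 h2
    rw [h4] at h3
    exact (QuotientGroup.eq_one_iff _).1 h3

/-- an involution different from `z` commuting with `z` has nontrivial image -/
theorem f_ne_one (h : Rad 3 z c N f) {τ : D} (hττ : τ * τ = 1) (hτ1 : τ ≠ 1) (hτne : τ ≠ z) (hτz : τ * z = z * τ) :
    f ⟨τ, mem_centralizer_singleton_iff.2 hτz⟩ ≠ 1 := by
  haveI : Fact (Nat.Prime 3) := ⟨Nat.prime_three⟩
  intro h1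
  obtain ⟨i, hi | hi⟩ := h.ker _ h1
  · have h2 : τ = c ^ i := hi
    have h3 := h.sq_one (by norm_num) (i := i) (by rw [← h2, hττ])
    rw [h3] at h2
    exact hτ1 h2
  · have h2 : τ = c ^ i * z := hi
    have h4 : c ^ i * c ^ i = 1 := by
      have h5 := h.xzc i z
      calc c ^ i * c ^ i = c ^ i * c ^ i * (z * z) := by rw [h.zz, mul_one]
        _ = c ^ i * (c ^ i * z) * z := by group
        _ = c ^ i * (z * c ^ i) * z := by rw [h5]
        _ = (c ^ i * z) * (c ^ i * z) := by group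
        _ = 1 := by rw [← h2, hττ]
    rw [h.sq_one (by norm_num) h4, one_mul] at h2
    exact hτne h2

/-- **The 3-part of the centralizer.** -/
theorem three_part [IsSimpleGroup A] (hns : ¬ Group.IsSolvable A) (h : Rad 3 z c N f) {x τ : D} (hx : x ^ 9 = c)
    (hxτ : x * τ = τ * x) (hττ : τ * τ = 1) (hτ1 : τ ≠ 1) (hτne : τ ≠ z) (hτz : τ * z = z * τ)
    (hA : ∀ w v : A, orderOf w = 9 → orderOf v = 2 → w * v = v * w → ∀ T : Subgroup A, IsPGroup 3 T →
      (∀ a ∈ T, a * w = w * a) → (∀ a ∈ T, a * v = v * a) → Nat.card T ≤ 9)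
    {T : Subgroup D} (hT : IsPGroup 3 T) (hTx : ∀ t ∈ T, t * x = x * t) (hTτ : ∀ t ∈ T, t * τ = τ * t) :
    Nat.card T ≤ Nat.card ↥(T ⊓ N : Subgroup D) * 9 := by
  haveI : Fact (Nat.Prime 3) := ⟨Nat.prime_three⟩
  obtain ⟨F, hF, hFN, hFk⟩ := exists_F hns h
  have hcc : c ^ 3 = 1 := by rw [← h.ox, pow_orderOf_eq_one]
  have h27 : x ^ 27 = 1 := by rw [show 27 = 9 * 3 by norm_num, pow_mul, hx, hcc]
  -- `F x` of order 9
  have hw : orderOf (F x) = 9 := by
    have h9 : F x ^ 9 = 1 := by rw [← map_pow, hx, hFN c h.xN]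
    have h3 : ¬ F x ^ 3 = 1 := by
      intro h3
      rw [← map_pow] at h3
      have h6 := hFk _ h3
      have h7 : x ^ 3 ∈ N := by
        have h8 : x ^ 3 = (x ^ 3 * x ^ 3) ^ 5 := by
          rw [← pow_add, ← pow_mul, show (3 + 3) * 5 = 27 + 3 by norm_num, pow_add, h27, one_mul]
        rw [h8]
        exact N.pow_mem h6 5
      exact cube_not_mem h (g := x ^ 3) (by rw [← pow_mul, hx]) h7
    exact orderOf_eq_prime_pow (p := 3) (n := 1) (by rw [pow_one]; exact h3) (by norm_num; exact h9)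
  have hv : orderOf (F τ) = 2 := by
    haveI : Fact (Nat.Prime 2) := ⟨Nat.prime_two⟩
    refine orderOf_eq_prime ?_ ?_
    · rw [← map_pow, pow_two, hττ, map_one]
    · have h1 := hF ⟨τ, mem_centralizer_singleton_iff.2 hτz⟩
      rw [show F τ = f ⟨τ, mem_centralizer_singleton_iff.2 hτz⟩ from h1]
      exact f_ne_one h hττ hτ1 hτne hτz
  have h9 := hA (F x) (F τ) hw hv (by rw [← map_mul, hxτ, map_mul]) (T.map F) (hT.map F) (by
      rintro _ ⟨t, ht, rfl⟩
      rw [← map_mul, hTx t ht, map_mul]) (by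
      rintro _ ⟨t, ht, rfl⟩
      rw [← map_mul, hTτ t ht, map_mul])
  let φ : T →* A := F.comp T.subtype
  have hr : φ.range = T.map F := by
    rw [MonoidHom.range_comp, range_subtype]
  have h1 : Nat.card T = Nat.card φ.ker * Nat.card ↥(T.map F) := by
    rw [← hr, ← Subgroup.index_ker, Subgroup.card_mul_index]
  have h2 : Nat.card φ.ker ≤ Nat.card ↥(T ⊓ N : Subgroup D) := by
    refine Nat.card_le_card_of_injective (fun t => ⟨((t : T) : D), (t : T).2, ?_⟩) ?_
    · have h3 : F ((t : T) : D) = 1 := MonoidHom.mem_ker.1 t.2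
      have h4 := hFk _ h3
      obtain ⟨k, hk⟩ := hT (t : T)
      have hk' : ((t : T) : D) ^ 3 ^ k = 1 := congrArg Subtype.val hk
      obtain ⟨m, hm⟩ : Odd (3 ^ k) := Odd.pow (by decide)
      have h5 : ((t : T) : D) = (((t : T) : D) * (t : T)) ^ (m + 1) := by
        rw [← pow_two, ← pow_mul, show 2 * (m + 1) = 3 ^ k + 1 by omega, pow_succ, hk', one_mul]
      rw [h5]
      exact N.pow_mem h4 _
    · intro a b hab
      have h3 := congrArg Subtype.val hab
      exact Subtype.ext (Subtype.ext h3)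
  rw [h1]
  exact Nat.mul_le_mul h2 h9

/-- **`3 ^ 9` divides `|C_N(τ)|`.** -/
theorem nine_dvd [IsSimpleGroup A] (hns : ¬ Group.IsSolvable A) (h : Rad 3 z c N f) (hN : Nat.card N ∣ 3 ^ 13)
    {τ : D} (hττ : τ * τ = 1) (hτ1 : τ ≠ 1) (hτne : τ ≠ z) (hτz : τ * z = z * τ)
    (hA : ∀ v : A, v * v = 1 → v ≠ 1 → Nat.card ↥(centralizer ({v} : Set A)) = 3317760 ∨
      Nat.card ↥(centralizer ({v} : Set A)) = 161280)
    (h13 : 3 ^ 13 ∣ Nat.card ↥(centralizer ({τ} : Set D))) :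
    3 ^ 9 ∣ Nat.card ↥(N ⊓ centralizer ({τ} : Set D) : Subgroup D) := by
  obtain ⟨m, hm1, hm2, -⟩ := H844.Ore.BAbs.card_cent hns h hττ hτz
  obtain ⟨v, hv⟩ : ∃ v, f ⟨τ, mem_centralizer_singleton_iff.2 hτz⟩ = v := ⟨_, rfl⟩
  have hvv : v * v = 1 := by
    rw [← hv, ← map_mul]
    have h1 : (⟨τ, mem_centralizer_singleton_iff.2 hτz⟩ : ↥(centralizer ({z} : Set D))) *
        ⟨τ, mem_centralizer_singleton_iff.2 hτz⟩ = 1 := Subtype.ext hττ
    rw [h1, map_one]
  have hv1 : v ≠ 1 := by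
    rw [← hv]
    exact f_ne_one h hττ hτ1 hτne hτz
  rw [hv] at hm2
  obtain ⟨j, -, hj⟩ := (Nat.dvd_prime_pow Nat.prime_three).1
    ((card_dvd_of_le (inf_le_left : N ⊓ centralizer ({τ} : Set D) ≤ N)).trans hN)
  rw [hm1, hj] at h13
  rw [hj]
  refine pow_dvd_pow 3 ?_
  by_contra hcon
  have h4 : m ∣ 3 ^ 4 * 286720 := by
    rcases hA v hvv hv1 with h5 | h5
    · rw [h5] at hm2
      exact hm2.trans (by norm_num)
    · rw [h5] at hm2
      exact hm2.trans (by norm_num)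
  have h5 : 3 ^ 13 ∣ 3 ^ 8 * (2 * (3 ^ 4 * 286720)) :=
    h13.trans (mul_dvd_mul (pow_dvd_pow 3 (by omega)) (mul_dvd_mul_left 2 h4))
  norm_num at h5

end Cfsg.Agent.H657.RIM.Abs
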