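import Cfsg.Agent.H657.RIM.Loc
import Cfsg.Agent.H792.RIM.SuzNine
import Cfsg.Agent.H810.RIM.CovConj
import Cfsg.Agent.H844.Ore.BThree
import Cfsg.Agent.H844.Ore.BFrame

/-!
# The centralizers of certain elements of order 27 of the Baby Monster, from a frame (helper657, S4816, row (B, 3))
-/

set_option autoImplicit false
set_option maxRecDepth 100000
set_option linter.unusedSectionVars false

namespace Cfsg.Agent.H657.RIM.BLoc

open Cfsg Cfsg.Agent Cfsg.Agent.MonsterX Cfsg.Agent.MonsterX.InstData Cfsg.Agent.MonsterX.MainPack Cfsg.Agent.MonsterU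
open Cfsg.Agent.MonsterP Cfsg.Agent.MonsterN Cfsg.Agent.LThree Cfsg.Agent.LThreeMB
open Cfsg.Agent.MonsterX.MainBasic Cfsg.Agent.MonsterX.MainSimple Cfsg.Agent.MonsterX.Model
open Cfsg.Agent.LThreeB (XT mem_XT centXT centXT' conjXT)
open Subgroup (centralizer mem_centralizer_singleton_iff center card_dvd_of_le zpowers)
open Cfsg.Spor (Co1)
open Cfsg.Agent.H979.BAdj Cfsg.Agent.H979.CovLift Cfsg.Agent.H979.OddB
open Cfsg.Agent.H630.NH Cfsg.Agent.H241.NH Cfsg.Agent.H630.Baby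
open Cfsg.Agent.BpSpor.M5 Cfsg.Agent.H844.Ore.BThree

universe u v

/-- the structure of `C(y)`, `y` of order 3 and fixed rank 0 -/
theorem exists_rad_y {y : centralizer ({KDone.K.z} : Set Mon)} (hy : orderOf y = 3)
    (hfr : fr (KChart.pi LThreeB.Row.cent y) = 1) :
    IsSimpleGroup (XX (KChart.pi LThreeB.Row.cent y)) ∧ ¬ Group.IsSolvable (XX (KChart.pi LThreeB.Row.cent y)) ∧
      Finite (XX (KChart.pi LThreeB.Row.cent y)) ∧ Spor.IsoSuz (XX (KChart.pi LThreeB.Row.cent y)) ∧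
      ∃ N : Subgroup ↥(centralizer ({(y : Mon)} : Set Mon)),
        Rad 3 (zD y) (self (y : Mon)) N (toXX (KChart.pi LThreeB.Row.cent) y) ∧ Nat.card ↥N ∣ 3 ^ 13 := by
  have hfin : Finite Mon := MThirteen.Row.finite
  have h := chart
  have hp : Fact (Nat.Prime 3) := ⟨Nat.prime_three⟩
  have htr := MThirteen.Row.trNe
  have hS : Spor.IsoSuz (XX (KChart.pi LThreeB.Row.cent y)) := CoOneFin.coOne.suz _ (orderOf_pi h hy) hfr
  have hcS : Nat.card (XX (KChart.pi LThreeB.Row.cent y)) = 448345497600 := by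
    obtain ⟨e⟩ := hS
    rw [Nat.card_congr e.toEquiv]
    exact SporadicRecognition.SuzOrder.card_Suz
  have hs : IsSimpleGroup (XX (KChart.pi LThreeB.Row.cent y)) := by
    obtain ⟨e⟩ := hS
    exact (MulEquiv.isSimpleGroup_congr e).2 Cfsg.Agent.S1694.result.1
  have hns : ¬ Group.IsSolvable (XX (KChart.pi LThreeB.Row.cent y)) :=
    H199.NSmMon.not_solvable hs hcS (by norm_num) (by norm_num)
  have hfS : Finite (XX (KChart.pi LThreeB.Row.cent y)) := Nat.finite_of_card_ne_zero (by rw [hcS]; norm_num)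
  obtain ⟨N, hN⟩ := BpSpor.M5.exists_rad h (by norm_num) hy hfr (fun d hd hc => isolated h htr hy hfr d hd hc)
    hs (by rw [hcS]; decide)
  refine ⟨hs, hns, hfS, hS, N, hN, ?_⟩
  obtain ⟨m, hm, hcm⟩ := hN.card_N_mul hns
  have h1 := H199.AbMon.three_zero' hy hfr
  have h2 : Nat.card ↥N * (448345497600 * m) ∣ 3 ^ 13 * (448345497600 * 2) := by
    rw [hcS] at hcm
    rw [← hcm]
    exact h1
  have h3 : Nat.card ↥N ∣ 3 ^ 13 * 2 := by
    refine Nat.dvd_of_mul_dvd_mul_right (show 0 < 448345497600 by norm_num) ?_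
    refine (Dvd.intro m (by ring)).trans (h2.trans (by norm_num))
  refine Nat.Coprime.dvd_of_dvd_mul_right ?_ h3
  exact Nat.coprime_two_right.2 hN.oN

theorem suz_nine' {X : Type u} [Group X] (hX : Spor.IsoSuz X) (w v : X) (hw : orderOf w = 9) (hv : orderOf v = 2)
    (hwv : w * v = v * w) (T : Subgroup X) (hT : IsPGroup 3 T) (hTw : ∀ a ∈ T, a * w = w * a)
    (hTv : ∀ a ∈ T, a * v = v * a) : Nat.card T ≤ 9 := by
  obtain ⟨e⟩ := hX
  have h1 := H792.RIM.suz_nine (w := e w) (t := e v) (by rw [MulEquiv.orderOf_eq, hw]) (by rw [MulEquiv.orderOf_eq, hv])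
    (by rw [← map_mul, hwv, map_mul]) (T.map e.toMonoidHom) (hT.map _) (by
      rintro _ ⟨a, ha, rfl⟩
      show e a * e w = e w * e a
      rw [← map_mul, hTw a ha, map_mul]) (by
      rintro _ ⟨a, ha, rfl⟩
      show e a * e v = e v * e a
      rw [← map_mul, hTv a ha, map_mul])
  rwa [Subgroup.card_map_of_injective (f := e.toMonoidHom) e.injective] at h1

variable {L : Type u} [Group L] [Finite L]

/-- a lift of order 27 -/
theorem exists_lift27 {t : Mon} (h2 : Nat.card ↥(center ↥(centralizer ({t} : Set Mon))) = 2)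
    (e : ↥(centralizer ({t} : Set Mon)) ⧸ center ↥(centralizer ({t} : Set Mon)) ≃* L) {x : L} (hx : orderOf x = 27) :
    ∃ a : ↥(centralizer ({t} : Set Mon)), orderOf a = 27 ∧ e (QuotientGroup.mk a) = x := by
  obtain ⟨q, rfl⟩ := e.surjective x
  obtain ⟨b, rfl⟩ := QuotientGroup.mk_surjective q
  rw [MulEquiv.orderOf_eq] at hx
  have h1 : b ^ 27 ∈ center ↥(centralizer ({t} : Set Mon)) := by
    rw [← QuotientGroup.eq_one_iff, QuotientGroup.mk_pow, ← hx, pow_orderOf_eq_one]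
  have h3 : b ^ 54 = 1 := by
    have h4 : (⟨b ^ 27, h1⟩ : ↥(center ↥(centralizer ({t} : Set Mon)))) ^ 2 = 1 := by rw [← h2, pow_card_eq_one']
    have h5 : (b ^ 27) ^ 2 = 1 := congrArg Subtype.val h4
    rwa [← pow_mul] at h5
  have hmk : (QuotientGroup.mk (b ^ 28) : ↥(centralizer ({t} : Set Mon)) ⧸ center ↥(centralizer ({t} : Set Mon))) =
      QuotientGroup.mk b := by
    rw [QuotientGroup.mk_pow, show 28 = 27 + 1 by norm_num, pow_succ]
    nth_rewrite 1 [← hx]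
    rw [pow_orderOf_eq_one, one_mul]
  refine ⟨b ^ 28, ?_, by rw [hmk]⟩
  apply Nat.dvd_antisymm
  · refine orderOf_dvd_of_pow_eq_one ?_
    rw [← pow_mul, show 28 * 27 = 54 * 14 by norm_num, pow_mul, h3, one_pow]
  · rw [← hx, ← hmk]
    exact orderOf_map_dvd (QuotientGroup.mk' _) (b ^ 28)

/-- the frame -/
def Frame (t c : Mon) : Prop :=
  ∃ (g : Mon) (y : centralizer ({KDone.K.z} : Set Mon)), (y : Mon) = g * c * g⁻¹ ∧ orderOf y = 3 ∧
    fr (KChart.pi LThreeB.Row.cent y) = 1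

/-- **The local argument in the Baby Monster.** -/
theorem bloc (h : Spor.IsoB L)
    (hframe : ∀ {c τ : Mon}, orderOf c = 3 → LThreeB.Row.TA τ → c * τ = τ * c → 3 ^ 13 ∣ Nat.card ↥(XT c τ) →
      ¬ H844.Ore.FiType τ c → Frame τ c) {x : L} (hx : orderOf x = 27) {P : Subgroup L} (hP : IsPGroup 3 P)
    (hPc : Nat.card P = 3 ^ 13) (hPx : ∀ g ∈ P, g * x = x * g → g ∈ zpowers x)
    (hP9 : ∀ g ∈ P, g * x ^ 9 = x ^ 9 * g) :
    (∃ E : Subgroup L, IsPGroup 3 E ∧ 3 ^ 9 ∣ Nat.card E ∧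
      (∀ g : L, g * x ^ 9 = x ^ 9 * g → ∀ n ∈ E, g * n * g⁻¹ ∈ E) ∧
      ∀ n ∈ E, x * n = n * x → n ∈ zpowers (x ^ 9)) ∧
    ∀ b : ℕ, 3 ^ b ∣ Nat.card ↥(centralizer ({x} : Set L)) → b ≤ 3 := by
  have hfin : Finite Mon := MThirteen.Row.finite
  have hL : ¬ 3 ^ 14 ∣ Nat.card L := by
    rw [NotCT.Orders.b h]
    norm_num
  obtain ⟨t, ht, h2, ⟨e⟩⟩ := exists_cover h
  obtain ⟨a, ha, hax⟩ := exists_lift27 h2 e hx
  have hto := MThirteen.Row.ta_order ht
  have htt : t * t = 1 := by rw [← pow_two, ← hto, pow_orderOf_eq_one]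
  have ht1 : t ≠ 1 := by
    rintro rfl
    rw [orderOf_one] at hto
    omega
  have hat : (a : Mon) * t = t * a := mem_centralizer_singleton_iff.1 a.2
  have ha9 : orderOf (a ^ 9) = 3 := by rw [orderOf_pow' _ (by norm_num), ha]; norm_num
  have hc3 : orderOf ((a : Mon) ^ 9) = 3 := by
    have h3 := Subgroup.orderOf_coe (a ^ 9)
    rw [ha9, Subgroup.coe_pow] at h3
    exact h3
  have hct : (a : Mon) ^ 9 * t = t * (a : Mon) ^ 9 := ((show Commute (a : Mon) t from hat).pow_left 9).eq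
  have hXT13 : 3 ^ 13 ∣ Nat.card ↥(XT ((a : Mon) ^ 9) t) := by
    have h3 := card_cent h2 e Nat.prime_three (by norm_num) ha9
    rw [← Nat.card_congr (centXT (a ^ 9)).toEquiv] at h3
    have h4 : Nat.card ↥(XT ((a : Mon) ^ 9) t) = Nat.card ↥(centralizer ({e (QuotientGroup.mk (a ^ 9))} : Set L)) * 2 := h3
    rw [h4]
    refine Dvd.dvd.mul_right ?_ 2
    rw [← hPc]
    refine card_dvd_of_le fun g hg => ?_
    rw [mem_centralizer_singleton_iff, QuotientGroup.mk_pow, map_pow, hax]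
    exact hP9 g hg
  have hF : ¬ H844.Ore.FiType t ((a : Mon) ^ 9) := by
    intro hF
    have h3 : H844.Ore.FiB (x ^ 9) :=
      ⟨t, ht, h2, e, a ^ 9, ha9, by rw [QuotientGroup.mk_pow, map_pow, hax], hF⟩
    exact H844.Ore.BFrame.fi_no_cube h3 (x ^ 3) (by rw [← pow_mul])
  obtain ⟨g, y, hyg, hy, hfr⟩ := hframe hc3 ht hct hXT13 hF
  obtain ⟨hs, hns, hfS, hS, N, hN, hNc⟩ := exists_rad_y hy hfr
  -- conjugate `t` into `C(z)`
  have ht₁y : (g * t * g⁻¹) * (y : Mon) = y * (g * t * g⁻¹) := by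
    rw [hyg]
    calc g * t * g⁻¹ * (g * (a : Mon) ^ 9 * g⁻¹) = g * (t * (a : Mon) ^ 9) * g⁻¹ := by group
      _ = g * ((a : Mon) ^ 9 * t) * g⁻¹ := by rw [hct]
      _ = _ := by group
  obtain ⟨d, hd⟩ := exists_conj_mem (centralizer ({zD y} : Set ↥(centralizer ({(y : Mon)} : Set Mon))))
    (index_odd hN) (t := ⟨g * t * g⁻¹, mem_centralizer_singleton_iff.2 ht₁y⟩) (Subtype.ext (by
      show g * t * g⁻¹ * (g * t * g⁻¹) = 1
      calc g * t * g⁻¹ * (g * t * g⁻¹) = g * (t * t) * g⁻¹ := by group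
        _ = 1 := by rw [htt]; group))
  have hdy : (d : Mon) * y = y * d := mem_centralizer_singleton_iff.1 d.2
  obtain ⟨k, hk⟩ : ∃ k : Mon, k = d * g := ⟨_, rfl⟩
  have hkc : k * (a : Mon) ^ 9 * k⁻¹ = y := by
    rw [hk]
    calc (d : Mon) * g * (a : Mon) ^ 9 * (d * g)⁻¹ = d * (g * (a : Mon) ^ 9 * g⁻¹) * (d : Mon)⁻¹ := by group
      _ = (d : Mon) * (y : Mon) * (d : Mon)⁻¹ := congrArg (fun s => (d : Mon) * s * (d : Mon)⁻¹) hyg.symm
      _ = y := by rw [hdy]; group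
  have hkt : (d : Mon) * (g * t * g⁻¹) * (d : Mon)⁻¹ = k * t * k⁻¹ := by rw [hk]; group
  obtain ⟨h2', e', he'⟩ := H810.RIM.CovConj.cover_conj h2 e k
  have hτy : (k * t * k⁻¹) * (y : Mon) = y * (k * t * k⁻¹) := by
    rw [← hkc]
    calc k * t * k⁻¹ * (k * (a : Mon) ^ 9 * k⁻¹) = k * (t * (a : Mon) ^ 9) * k⁻¹ := by group
      _ = k * ((a : Mon) ^ 9 * t) * k⁻¹ := by rw [hct]
      _ = _ := by group
  have haτ : (k * (a : Mon) * k⁻¹) ∈ centralizer ({k * t * k⁻¹} : Set Mon) := by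
    rw [mem_centralizer_singleton_iff]
    calc k * (a : Mon) * k⁻¹ * (k * t * k⁻¹) = k * ((a : Mon) * t) * k⁻¹ := by group
      _ = k * (t * (a : Mon)) * k⁻¹ := by rw [hat]
      _ = _ := by group
  have hax' := he' a a.2 haτ
  have haeq : (⟨(a : Mon), a.2⟩ : ↥(centralizer ({t} : Set Mon))) = a := rfl
  rw [haeq, hax] at hax'
  have hττ : (k * t * k⁻¹) * (k * t * k⁻¹) = 1 := by
    calc k * t * k⁻¹ * (k * t * k⁻¹) = k * (t * t) * k⁻¹ := by group
      _ = 1 := by rw [htt]; group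
  have hτ1 : k * t * k⁻¹ ≠ 1 := by
    intro h3
    rw [conj_eq_one_iff] at h3
    exact ht1 h3
  have hcard : Nat.card ↥(XT (y : Mon) (k * t * k⁻¹)) = Nat.card ↥(XT ((a : Mon) ^ 9) t) := by
    have h3 := card_XT_conj k ((a : Mon) ^ 9) t
    rwa [hkc] at h3
  refine Loc.loc (M := Mon) (τ := k * t * k⁻¹) (c := (y : Mon)) (z := zD y) (c' := self (y : Mon)) rfl hns hN hNc
    (τ' := ⟨k * t * k⁻¹, mem_centralizer_singleton_iff.2 hτy⟩) rfl hττ hτ1 ?_ ?_
    (fun v hv hv1 => suz_card hS v hv hv1) (fun w v hw hv hwv T hT hTw hTv => suz_nine' hS w v hw hv hwv T hT hTw hTv)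
    h2' e' (a := ⟨k * (a : Mon) * k⁻¹, haτ⟩) ?_ ?_ hax' ?_ hP hPc hL hPx hP9
  · intro h3
    have h4 : k * t * k⁻¹ = KDone.K.z := congrArg Subtype.val h3
    exact MThirteen.Row.ta_ne ht k h4
  · have h3 := mem_centralizer_singleton_iff.1 hd
    have h4 : d * ⟨g * t * g⁻¹, mem_centralizer_singleton_iff.2 ht₁y⟩ * d⁻¹ =
        (⟨k * t * k⁻¹, mem_centralizer_singleton_iff.2 hτy⟩ : ↥(centralizer ({(y : Mon)} : Set Mon))) :=
      Subtype.ext hkt
    rwa [h4] at h3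
  · have h3 := MulEquiv.orderOf_eq (MulAut.conj k) (a : Mon)
    rw [Subgroup.orderOf_coe, ha] at h3
    rw [← Subgroup.orderOf_coe]
    exact h3
  · show (k * (a : Mon) * k⁻¹) ^ 9 = y
    rw [conj_pow, hkc]
  · have h3 : Nat.card ↥(XT (y : Mon) (k * t * k⁻¹)) = Nat.card ↥(centralizer
        ({⟨k * t * k⁻¹, mem_centralizer_singleton_iff.2 hτy⟩} : Set ↥(centralizer ({(y : Mon)} : Set Mon)))) :=
      (Nat.card_congr (centXT' (⟨k * t * k⁻¹, mem_centralizer_singleton_iff.2 hτy⟩ :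
        ↥(centralizer ({(y : Mon)} : Set Mon)))).toEquiv).symm
    rw [← h3, hcard]
    exact hXT13

end Cfsg.Agent.H657.RIM.BLoc
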