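import Cfsg.Agent.H657.RIM.Abs
import Cfsg.Agent.H979.CovLift

/-!
# The centralizer of `x`, `x ^ 9 = c`, in `C(τ) / Z` (helper657, S4816, row (B, 3))

`loc` : abstract form of the argument in `C(c) ∩ C(τ)`, `L ≅ C(τ) / Z(C(τ))`, `|Z(C(τ))| = 2`.
-/

set_option autoImplicit false
set_option linter.unusedSectionVars false

namespace Cfsg.Agent.H657.RIM.Loc

open Subgroup Cfsg Cfsg.Agent.BpSpor.M5

universe u v w

variable {M : Type u} [Group M] [Finite M] {τ : M} {L : Type v} [Group L] [Finite L]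

/-- the map `C_D(τ) → L` for `D = C(c)` -/
theorem exists_psi (h2 : Nat.card ↥(center ↥(centralizer ({τ} : Set M))) = 2)
    (e : ↥(centralizer ({τ} : Set M)) ⧸ center ↥(centralizer ({τ} : Set M)) ≃* L) {c : M}
    {τ' : ↥(centralizer ({c} : Set M))} (hτ' : (τ' : M) = τ) {a : ↥(centralizer ({τ} : Set M))}
    (ha : orderOf a = 27) (ha9 : (a : M) ^ 9 = c) :
    ∃ ψ : ↥(centralizer ({τ'} : Set ↥(centralizer ({c} : Set M)))) →* L,
      ∃ x' : ↥(centralizer ({τ'} : Set ↥(centralizer ({c} : Set M)))),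
      ((x' : ↥(centralizer ({c} : Set M))) : M) = a ∧ ψ x' = e (QuotientGroup.mk a) ∧
      (∀ k, ψ k = 1 → k * k = 1) ∧ (∀ k, ψ k = 1 → ∀ g, g * k = k * g) ∧
      (∀ l : L, l * e (QuotientGroup.mk a) ^ 9 = e (QuotientGroup.mk a) ^ 9 * l → ∃ k, ψ k = l) ∧
      ∀ k, ψ k * e (QuotientGroup.mk a) = e (QuotientGroup.mk a) * ψ k → k * x' = x' * k := by
  have hmem : ∀ k : ↥(centralizer ({τ'} : Set ↥(centralizer ({c} : Set M)))),
      ((k : ↥(centralizer ({c} : Set M))) : M) ∈ centralizer ({τ} : Set M) := by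
    intro k
    rw [mem_centralizer_singleton_iff, ← hτ']
    exact congrArg Subtype.val (mem_centralizer_singleton_iff.1 k.2)
  have hmem' : ∀ {g : M}, g * τ = τ * g → g * c = c * g →
      ∃ k : ↥(centralizer ({τ'} : Set ↥(centralizer ({c} : Set M)))), ((k : ↥(centralizer ({c} : Set M))) : M) = g := by
    intro g hg hgc
    refine ⟨⟨⟨g, mem_centralizer_singleton_iff.2 hgc⟩, mem_centralizer_singleton_iff.2 (Subtype.ext ?_)⟩, rfl⟩
    show g * (τ' : M) = τ' * g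
    rw [hτ', hg]
  let ι : ↥(centralizer ({τ'} : Set ↥(centralizer ({c} : Set M)))) →* ↥(centralizer ({τ} : Set M)) :=
    { toFun := fun k => ⟨((k : ↥(centralizer ({c} : Set M))) : M), hmem k⟩
      map_one' := rfl
      map_mul' := fun a b => rfl }
  let ψ : ↥(centralizer ({τ'} : Set ↥(centralizer ({c} : Set M)))) →* L :=
    e.toMonoidHom.comp ((QuotientGroup.mk' _).comp ι)
  have hψ : ∀ k, ψ k = e (QuotientGroup.mk (ι k)) := fun k => rfl
  have hιi : ∀ k k', ι k = ι k' → k = k' := by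
    intro k k' hk
    have h1 := congrArg Subtype.val hk
    exact Subtype.ext (Subtype.ext h1)
  have hker : ∀ k, ψ k = 1 → ι k ∈ center ↥(centralizer ({τ} : Set M)) := by
    intro k hk
    rw [hψ, map_eq_one_iff e e.injective] at hk
    exact (QuotientGroup.eq_one_iff _).1 hk
  have hac : (a : M) * c = c * a := by
    rw [← ha9]
    exact ((Commute.refl (a : M)).pow_right 9).eq
  obtain ⟨x', hx'⟩ := hmem' (mem_centralizer_singleton_iff.1 a.2) hac
  have hιx : ι x' = a := Subtype.ext hx'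
  have ha27 : a ^ 27 = 1 := by rw [← ha, pow_orderOf_eq_one]
  refine ⟨ψ, x', hx', by rw [hψ, hιx], ?_, ?_, ?_, ?_⟩
  · intro k hk
    apply hιi
    have h1 := hker k hk
    have h3 : (⟨ι k, h1⟩ : ↥(center ↥(centralizer ({τ} : Set M)))) ^ 2 = 1 := by rw [← h2, pow_card_eq_one']
    have h4 : ι k ^ 2 = 1 := congrArg Subtype.val h3
    rw [map_mul, ← pow_two, h4, map_one]
  · intro k hk g
    apply hιi
    rw [map_mul, map_mul]
    exact mem_center_iff.1 (hker k hk) (ι g)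
  · intro l hl
    obtain ⟨q, rfl⟩ := e.surjective l
    obtain ⟨b, rfl⟩ := QuotientGroup.mk_surjective q
    have h1 : (QuotientGroup.mk (a ^ 9) : ↥(centralizer ({τ} : Set M)) ⧸ center ↥(centralizer ({τ} : Set M))) *
        QuotientGroup.mk b = QuotientGroup.mk b * QuotientGroup.mk (a ^ 9) := by
      apply e.injective
      rw [map_mul, map_mul, QuotientGroup.mk_pow, map_pow]
      exact hl.symm
    have h3 := H979.CovLift.lift_comm (le_refl _) h2 (n := 3) (by decide) (x := a ^ 9) (y := b)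
      (by rw [← pow_mul, ha27]) h1
    have h4 : (b : M) * c = c * b := by
      rw [← ha9]
      exact (congrArg Subtype.val h3).symm
    obtain ⟨k, hk⟩ := hmem' (mem_centralizer_singleton_iff.1 b.2) h4
    refine ⟨k, ?_⟩
    rw [hψ, show ι k = b from Subtype.ext hk]
  · intro k hk
    have h1 : (QuotientGroup.mk a : ↥(centralizer ({τ} : Set M)) ⧸ center ↥(centralizer ({τ} : Set M))) *
        QuotientGroup.mk (ι k) = QuotientGroup.mk (ι k) * QuotientGroup.mk a := by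
      apply e.injective
      rw [map_mul, map_mul]
      exact hk.symm
    have h3 := H979.CovLift.lift_comm (le_refl _) h2 (n := 27) (by decide) (x := a) (y := ι k) ha27 h1
    apply hιi
    rw [map_mul, map_mul, hιx]
    exact h3.symm

/-- a power of `x` in `N` is a power of `x ^ 9` -/
theorem pow_mem_iff {D : Type u} [Group D] {N : Subgroup D} {x : D} (h27 : x ^ 27 = 1) (h3 : x ^ 3 ∉ N) {i : ℤ}
    (hi : x ^ (2 * i) ∈ N) : ∃ j : ℤ, i = 9 * j := by
  have h9 : (9 : ℤ) ∣ i := by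
    by_contra hcon
    apply h3
    -- `x ^ 3` is a power of `x ^ (2 i)`
    have key : ∃ s t : ℤ, (2 * i) * s + 27 * t = 3 := by
      have hg : (Int.gcd (2 * i) 27 : ℤ) ∣ 3 := by
        have h1 : Int.gcd (2 * i) 27 ∣ 27 := by
          have := Int.gcd_dvd_right (2 * i) 27
          exact_mod_cast this
        have h2 : Int.gcd (2 * i) 27 ∣ 3 ^ 3 := by simpa using h1
        obtain ⟨k, hk, hk'⟩ := (Nat.dvd_prime_pow Nat.prime_three).1 h2
        have h4 : k ≤ 1 := by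
          by_contra hk2
          have h5 : (9 : ℤ) ∣ 2 * i := by
            have h6 : (Int.gcd (2 * i) 27 : ℤ) ∣ 2 * i := Int.gcd_dvd_left _ _
            refine Dvd.dvd.trans ?_ h6
            rw [hk']
            have : (3 : ℕ) ^ 2 ∣ 3 ^ k := pow_dvd_pow 3 (by omega)
            have h7 : ((3 ^ 2 : ℕ) : ℤ) ∣ ((3 ^ k : ℕ) : ℤ) := Int.natCast_dvd_natCast.2 this
            simpa using h7
          exact hcon (by omega)
        rw [hk']
        have : (3 : ℕ) ^ k ∣ 3 ^ 1 := pow_dvd_pow 3 h4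
        have h7 : ((3 ^ k : ℕ) : ℤ) ∣ ((3 ^ 1 : ℕ) : ℤ) := Int.natCast_dvd_natCast.2 this
        simpa using h7
      obtain ⟨m, hm⟩ := hg
      refine ⟨Int.gcdA (2 * i) 27 * m, Int.gcdB (2 * i) 27 * m, ?_⟩
      have h1 := Int.gcd_eq_gcd_ab (2 * i) 27
      calc 2 * i * (Int.gcdA (2 * i) 27 * m) + 27 * (Int.gcdB (2 * i) 27 * m) =
            (2 * i * Int.gcdA (2 * i) 27 + 27 * Int.gcdB (2 * i) 27) * m := by ring
        _ = 3 := by rw [← h1, ← hm]
    obtain ⟨s, t, hst⟩ := key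
    have h4 : x ^ (3 : ℕ) = (x ^ (2 * i)) ^ s := by
      rw [← zpow_natCast, ← zpow_mul]
      have h5 : ((3 : ℕ) : ℤ) = 2 * i * s + 27 * t := by rw [hst]; rfl
      rw [h5, zpow_add, zpow_mul x 27 t]
      have h6 : x ^ (27 : ℤ) = 1 := by exact_mod_cast h27
      rw [h6, one_zpow, mul_one]
    rw [h4]
    exact N.zpow_mem hi s
  obtain ⟨j, hj⟩ := h9
  exact ⟨j, hj⟩

/-- elements of `N` whose square is trivial -/
theorem eq_one_of_sq {D : Type u} [Group D] [Finite D] {N : Subgroup D} (hN : Odd (Nat.card N)) {m : D} (hm : m ∈ N)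
    (hmm : m * m = 1) : m = 1 := by
  obtain ⟨j, hj⟩ := hN
  have h1 : m ^ (2 * j + 1) = 1 := by
    have h1 : (⟨m, hm⟩ : ↥N) ^ (2 * j + 1) = 1 := by rw [← hj]; exact pow_card_eq_one'
    exact congrArg Subtype.val h1
  rw [pow_succ, pow_mul, pow_two, hmm, one_pow, one_mul] at h1
  exact h1

theorem loc_aux {c : M} {z c' : ↥(centralizer ({c} : Set M))} (hc' : (c' : M) = c)
    {N : Subgroup ↥(centralizer ({c} : Set M))} {A : Type w} [Group A] [Finite A] [IsSimpleGroup A]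
    {f : ↥(centralizer ({z} : Set ↥(centralizer ({c} : Set M)))) →* A} (hns : ¬ Group.IsSolvable A)
    (h : Rad 3 z c' N f) (hN : Nat.card N ∣ 3 ^ 13) {τ' : ↥(centralizer ({c} : Set M))} (hτ' : (τ' : M) = τ)
    (hττ : τ * τ = 1) (hτ1 : τ ≠ 1) (hτne : τ' ≠ z) (hτz : τ' * z = z * τ')
    (hA : ∀ v : A, v * v = 1 → v ≠ 1 → Nat.card ↥(centralizer ({v} : Set A)) = 3317760 ∨
      Nat.card ↥(centralizer ({v} : Set A)) = 161280)
    (hA9 : ∀ w v : A, orderOf w = 9 → orderOf v = 2 → w * v = v * w → ∀ T : Subgroup A, IsPGroup 3 T →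
      (∀ a ∈ T, a * w = w * a) → (∀ a ∈ T, a * v = v * a) → Nat.card T ≤ 9)
    {a : M} (ha9 : a ^ 9 = c) {x : L} {K : Subgroup ↥(centralizer ({c} : Set M))}
    (hK : K = centralizer ({τ'} : Set ↥(centralizer ({c} : Set M)))) (ψ : ↥K →* L) (x' : ↥K)
    (hx'a : ((x' : ↥(centralizer ({c} : Set M))) : M) = a) (hψx : ψ x' = x) (hk1 : ∀ k, ψ k = 1 → k * k = 1)
    (hk2 : ∀ k, ψ k = 1 → ∀ g, g * k = k * g) (hk3 : ∀ l : L, l * x ^ 9 = x ^ 9 * l → ∃ k, ψ k = l)
    (hk4 : ∀ k, ψ k * x = x * ψ k → k * x' = x' * k)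
    (h13 : 3 ^ 13 ∣ Nat.card ↥(centralizer ({τ'} : Set ↥(centralizer ({c} : Set M)))))
    {P : Subgroup L} (hP : IsPGroup 3 P) (hPc : Nat.card P = 3 ^ 13) (hL : ¬ 3 ^ 14 ∣ Nat.card L)
    (hPx : ∀ g ∈ P, g * x = x * g → g ∈ zpowers x) (hP9 : ∀ g ∈ P, g * x ^ 9 = x ^ 9 * g) :
    (∃ E : Subgroup L, IsPGroup 3 E ∧ 3 ^ 9 ∣ Nat.card E ∧
      (∀ g : L, g * x ^ 9 = x ^ 9 * g → ∀ n ∈ E, g * n * g⁻¹ ∈ E) ∧
      ∀ n ∈ E, x * n = n * x → n ∈ zpowers (x ^ 9)) ∧
    ∀ b : ℕ, 3 ^ b ∣ Nat.card ↥(centralizer ({x} : Set L)) → b ≤ 3 := by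
  have : Fact (Nat.Prime 3) := ⟨Nat.prime_three⟩
  have hNn := h.nN
  have memK : ∀ {g : ↥(centralizer ({c} : Set M))}, g ∈ K ↔ g * τ' = τ' * g := by
    intro g
    rw [hK, mem_centralizer_singleton_iff]
  have hττ' : τ' * τ' = 1 := Subtype.ext (by show (τ' : M) * τ' = 1; rw [hτ', hττ])
  have hτ1' : τ' ≠ 1 := by
    intro h1
    apply hτ1
    rw [← hτ', h1]
    rfl
  have hN3 : IsPGroup 3 N := by
    obtain ⟨n, -, hn⟩ := (Nat.dvd_prime_pow Nat.prime_three).1 hN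
    exact IsPGroup.of_card hn
  have hx9 : (x' : ↥(centralizer ({c} : Set M))) ^ 9 = c' := by
    apply Subtype.ext
    show ((x' : ↥(centralizer ({c} : Set M))) : M) ^ 9 = c'
    rw [hx'a, ha9, hc']
  have hcc : c' ^ 3 = 1 := by rw [← h.ox, pow_orderOf_eq_one]
  have hx27 : (x' : ↥(centralizer ({c} : Set M))) ^ 27 = 1 := by
    rw [show 27 = 9 * 3 by norm_num, pow_mul, hx9, hcc]
  have hx3 : (x' : ↥(centralizer ({c} : Set M))) ^ 3 ∉ N :=
    Abs.cube_not_mem h (by rw [← pow_mul, hx9])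
  -- `E`
  let φ : ↥(N.subgroupOf K) →* L := ψ.comp (N.subgroupOf K).subtype
  have hφi : Function.Injective φ := by
    rw [injective_iff_map_eq_one]
    intro n hn
    have h1 : ψ (n : K) = 1 := hn
    have h3 := hk1 _ h1
    have h4 : ((n : K) : ↥(centralizer ({c} : Set M))) = 1 :=
      eq_one_of_sq h.oN (mem_subgroupOf.1 n.2) (congrArg Subtype.val h3)
    exact Subtype.ext (Subtype.ext h4)
  set E : Subgroup L := (N.subgroupOf K).map ψ with hE
  have hφr : φ.range = E := by rw [MonoidHom.range_comp, range_subtype]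
  have hEc : Nat.card E = Nat.card ↥(N ⊓ K : Subgroup ↥(centralizer ({c} : Set M))) := by
    rw [← hφr, ← Nat.card_congr (MonoidHom.ofInjective hφi).toEquiv,
      ← card_map_of_injective K.subtype_injective, subgroupOf_map_subtype]
  have hEp : IsPGroup 3 E := IsPGroup.map hN3.comap_subtype ψ
  have hE9 : 3 ^ 9 ∣ Nat.card E := by
    rw [hEc, hK]
    exact Abs.nine_dvd hns h hN hττ' hτ1' hτne hτz hA h13
  have hEn : ∀ g : L, g * x ^ 9 = x ^ 9 * g → ∀ n ∈ E, g * n * g⁻¹ ∈ E := by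
    rintro g hg _ ⟨n, hn, rfl⟩
    obtain ⟨k, rfl⟩ := hk3 g hg
    refine ⟨k * n * k⁻¹, ?_, by rw [map_mul, map_mul, map_inv]⟩
    have hn' : (n : ↥(centralizer ({c} : Set M))) ∈ N := mem_subgroupOf.1 hn
    exact mem_subgroupOf.2 (hNn.conj_mem _ hn' k)
  -- `E ≤ P`
  have hEP : E ≤ P := by
    have h1 : P ≤ normalizer (E : Set L) := by
      intro g hg
      have hg9 := hP9 g hg
      rw [mem_normalizer_iff]
      intro n
      refine ⟨fun hn => hEn g hg9 n hn, fun hn => ?_⟩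
      have h3 := hEn g⁻¹ ((show Commute g (x ^ 9) from hg9).inv_left).eq _ hn
      have h4 : g⁻¹ * (g * n * g⁻¹) * g⁻¹⁻¹ = n := by group
      rwa [h4] at h3
    have h3 : IsPGroup 3 ↥(P ⊔ E) := hP.to_sup_of_normal_right' hEp h1
    obtain ⟨n, hn⟩ := IsPGroup.iff_card.1 h3
    have h4 : n ≤ 13 := by
      by_contra hcon
      apply hL
      exact (pow_dvd_pow 3 (show 14 ≤ n by omega)).trans (hn ▸ Subgroup.card_subgroup_dvd_card _)
    have h5 : P ⊔ E = P := by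
      refine (Subgroup.eq_of_le_of_card_ge le_sup_left ?_).symm
      rw [hn, hPc]
      exact Nat.pow_le_pow_right (by norm_num) h4
    rw [← h5]
    exact le_sup_right
  have hfix : ∀ n ∈ E, x * n = n * x → n ∈ zpowers (x ^ 9) := by
    rintro _ ⟨n, hn, rfl⟩ hc
    have hn' : (n : ↥(centralizer ({c} : Set M))) ∈ N := mem_subgroupOf.1 hn
    obtain ⟨i, hi⟩ := mem_zpowers_iff.1 (hPx _ (hEP ⟨n, hn, rfl⟩) hc.symm)
    have hm : ψ (n⁻¹ * x' ^ i) = 1 := by rw [map_mul, map_inv, map_zpow, hψx, hi, inv_mul_cancel]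
    have hm1 := hk1 _ hm
    have hm2 := hk2 _ hm n
    -- `x' ^ (2 i) = n ^ 2`
    have h1 : x' ^ (2 * i) = n * n := by
      have h3 : x' ^ i = n * (n⁻¹ * x' ^ i) := by group
      rw [two_mul, zpow_add, h3]
      calc n * (n⁻¹ * x' ^ i) * (n * (n⁻¹ * x' ^ i)) = n * ((n⁻¹ * x' ^ i) * n) * (n⁻¹ * x' ^ i) := by group
        _ = n * (n * (n⁻¹ * x' ^ i)) * (n⁻¹ * x' ^ i) := by rw [hm2]
        _ = n * n * ((n⁻¹ * x' ^ i) * (n⁻¹ * x' ^ i)) := by group
        _ = n * n := by rw [hm1, mul_one]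
    have h3 : (x' : ↥(centralizer ({c} : Set M))) ^ (2 * i) ∈ N := by
      have h4 : (x' : ↥(centralizer ({c} : Set M))) ^ (2 * i) = n * n := by
        have h5 := congrArg Subtype.val h1
        simpa using h5
      rw [h4]
      exact N.mul_mem hn' hn'
    obtain ⟨j, rfl⟩ := pow_mem_iff hx27 hx3 h3
    rw [← hi, zpow_mul]
    exact mem_zpowers_iff.2 ⟨j, by norm_cast⟩
  refine ⟨⟨E, hEp, hE9, hEn, hfix⟩, fun b hb => ?_⟩
  -- `C_K(x') → C_L(x)` is onto
  set C := centralizer ({x'} : Set ↥K) with hC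
  have hCc : Nat.card ↥(centralizer ({x} : Set L)) ∣ Nat.card C := by
    let θ : ↥C →* ↥(centralizer ({x} : Set L)) :=
      { toFun := fun k => ⟨ψ k, by
          rw [mem_centralizer_singleton_iff, ← hψx, ← map_mul, ← map_mul, mem_centralizer_singleton_iff.1 k.2]⟩
        map_one' := Subtype.ext (by simp)
        map_mul' := fun a b => Subtype.ext (by simp) }
    refine Subgroup.card_dvd_of_surjective θ ?_
    rintro ⟨l, hl⟩
    rw [mem_centralizer_singleton_iff] at hl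
    obtain ⟨k, rfl⟩ := hk3 l ((show Commute l x from hl).pow_right 9).eq
    exact ⟨⟨k, mem_centralizer_singleton_iff.2 (hk4 k hl)⟩, rfl⟩
  obtain ⟨T⟩ : Nonempty (Sylow 3 ↥C) := inferInstance
  have hTb : 3 ^ b ∣ Nat.card T := T.pow_dvd_card_of_pow_dvd_card (hb.trans hCc)
  set T' : Subgroup ↥(centralizer ({c} : Set M)) := (((T : Subgroup ↥C).map C.subtype).map K.subtype) with hT'
  have hT'c : Nat.card T' = Nat.card T := by
    rw [hT', card_map_of_injective K.subtype_injective, card_map_of_injective C.subtype_injective]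
  have hT'p : IsPGroup 3 T' := (T.isPGroup'.map _).map _
  have h1 := Abs.three_part hns h hx9 (τ := τ') (by
      exact memK.1 x'.2) hττ' hτ1' hτne hτz hA9 hT'p (by
      rintro _ ⟨_, ⟨t, ht, rfl⟩, rfl⟩
      exact congrArg Subtype.val (mem_centralizer_singleton_iff.1 t.2)) (by
      rintro _ ⟨k, -, rfl⟩
      exact memK.1 k.2)
  have h3 : Nat.card ↥(T' ⊓ N : Subgroup ↥(centralizer ({c} : Set M))) ≤ 3 := by
    have h4 : T' ⊓ N ≤ zpowers c' := by
      rintro _ ⟨⟨_, ⟨t, ht, rfl⟩, rfl⟩, htN⟩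
      have htN' : ((t : ↥K) : ↥(centralizer ({c} : Set M))) ∈ N := htN
      have htx := mem_centralizer_singleton_iff.1 t.2
      obtain ⟨j, hj⟩ := mem_zpowers_iff.1 (hfix (ψ (t : ↥K)) ⟨(t : ↥K), mem_subgroupOf.2 htN', rfl⟩
        (by rw [← hψx, ← map_mul, ← map_mul, htx]))
      have hm : ψ ((t : ↥K) * ((x' ^ 9) ^ j)⁻¹) = 1 := by
        rw [map_mul, map_inv, map_zpow, map_pow, hψx, hj, mul_inv_cancel]
      have hm1 := congrArg Subtype.val (hk1 _ hm)
      have hm3 : ((t : ↥K) : ↥(centralizer ({c} : Set M))) * (c' ^ j)⁻¹ ∈ N :=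
        N.mul_mem htN' (N.inv_mem (N.zpow_mem h.xN j))
      have e1 : (((t : ↥K) * ((x' ^ 9) ^ j)⁻¹ : ↥K) : ↥(centralizer ({c} : Set M))) =
          ((t : ↥K) : ↥(centralizer ({c} : Set M))) * (c' ^ j)⁻¹ := by
        rw [← hx9]
        push_cast
        rfl
      have hm4 : (((t : ↥K) : ↥(centralizer ({c} : Set M))) * (c' ^ j)⁻¹) *
          (((t : ↥K) : ↥(centralizer ({c} : Set M))) * (c' ^ j)⁻¹) = 1 := by
        rw [← e1]
        exact hm1
      have hm5 := eq_one_of_sq h.oN hm3 hm4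
      rw [mul_inv_eq_one] at hm5
      show ((t : ↥K) : ↥(centralizer ({c} : Set M))) ∈ zpowers c'
      rw [hm5]
      exact mem_zpowers_iff.2 ⟨j, rfl⟩
    refine (Nat.le_of_dvd (by norm_num) ?_ : _ ≤ 3)
    have h5 := card_dvd_of_le h4
    rwa [Nat.card_zpowers, h.ox] at h5
  have h4 : 3 ^ b ≤ 27 := by
    have h5 := Nat.le_of_dvd Nat.card_pos hTb
    have h6 : Nat.card T ≤ 27 := by
      rw [← hT'c]
      omega
    exact h5.trans h6
  by_contra hcon
  have h5 : 3 ^ 4 ≤ 3 ^ b := Nat.pow_le_pow_right (by norm_num) (by omega)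
  omega

/-- **The local argument.** -/
theorem loc {c : M} {z c' : ↥(centralizer ({c} : Set M))} (hc' : (c' : M) = c)
    {N : Subgroup ↥(centralizer ({c} : Set M))} {A : Type w} [Group A] [Finite A] [IsSimpleGroup A]
    {f : ↥(centralizer ({z} : Set ↥(centralizer ({c} : Set M)))) →* A} (hns : ¬ Group.IsSolvable A)
    (h : Rad 3 z c' N f) (hN : Nat.card N ∣ 3 ^ 13) {τ' : ↥(centralizer ({c} : Set M))} (hτ' : (τ' : M) = τ)
    (hττ : τ * τ = 1) (hτ1 : τ ≠ 1) (hτne : τ' ≠ z) (hτz : τ' * z = z * τ')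
    (hA : ∀ v : A, v * v = 1 → v ≠ 1 → Nat.card ↥(centralizer ({v} : Set A)) = 3317760 ∨
      Nat.card ↥(centralizer ({v} : Set A)) = 161280)
    (hA9 : ∀ w v : A, orderOf w = 9 → orderOf v = 2 → w * v = v * w → ∀ T : Subgroup A, IsPGroup 3 T →
      (∀ a ∈ T, a * w = w * a) → (∀ a ∈ T, a * v = v * a) → Nat.card T ≤ 9)
    (h2 : Nat.card ↥(center ↥(centralizer ({τ} : Set M))) = 2)
    (e : ↥(centralizer ({τ} : Set M)) ⧸ center ↥(centralizer ({τ} : Set M)) ≃* L)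
    {a : ↥(centralizer ({τ} : Set M))} (ha : orderOf a = 27) (ha9 : (a : M) ^ 9 = c) {x : L}
    (hx : e (QuotientGroup.mk a) = x)
    (h13 : 3 ^ 13 ∣ Nat.card ↥(centralizer ({τ'} : Set ↥(centralizer ({c} : Set M)))))
    {P : Subgroup L} (hP : IsPGroup 3 P) (hPc : Nat.card P = 3 ^ 13) (hL : ¬ 3 ^ 14 ∣ Nat.card L)
    (hPx : ∀ g ∈ P, g * x = x * g → g ∈ zpowers x) (hP9 : ∀ g ∈ P, g * x ^ 9 = x ^ 9 * g) :
    (∃ E : Subgroup L, IsPGroup 3 E ∧ 3 ^ 9 ∣ Nat.card E ∧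
      (∀ g : L, g * x ^ 9 = x ^ 9 * g → ∀ n ∈ E, g * n * g⁻¹ ∈ E) ∧
      ∀ n ∈ E, x * n = n * x → n ∈ zpowers (x ^ 9)) ∧
    ∀ b : ℕ, 3 ^ b ∣ Nat.card ↥(centralizer ({x} : Set L)) → b ≤ 3 := by
  obtain ⟨ψ, x', hx'a, hψx, hk1, hk2, hk3, hk4⟩ := exists_psi h2 e hτ' ha ha9
  rw [hx] at hψx hk3 hk4
  exact loc_aux hc' hns h hN hτ' hττ hτ1 hτne hτz hA hA9 ha9 rfl ψ x' hx'a hψx hk1 hk2 hk3 hk4 h13 hP hPc hL hPx hP9

end Cfsg.Agent.H657.RIM.Loc
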